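import Groth.Agent.DblStab5.Main
import Groth.Agent.Atiyah5.Det
import Groth.Agent.VB5.DualDeg
import Groth.Agent.Omega15.UnivConormal
import Groth.Agent.ParaF29.Basic

/-!
# Descent of the canonical sheaf along a double cover
-/

set_option autoImplicit false
set_option linter.unusedSectionVars false
set_option linter.style.haveILetI false
set_option backward.isDefEq.respectTransparency.types false
set_option maxHeartbeats 1000000
universe u

open CategoryTheory CategoryTheory.Limits AlgebraicGeometry TopologicalSpace Opposite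
open Groth.Agent.Coherent Groth.Agent.PicLib Groth.Agent.VB5 Groth.Agent.AmpleLib

namespace Groth.Agent.DblStab5

variable {X Y : Scheme.{u}} [IsIntegral X] [IsIntegral Y] [IsLocallyNoetherian X] [IsLocallyNoetherian Y]
  (π : X ⟶ Y) [IsFinite π] [Flat π]
  [LocallyOfFinitePresentation π] (hrk : ∀ y : Y, π.finrank y = 2)
  (k : Type u) [Field k] [IsAlgClosed k] [CharZero k]
  [X.Over (Spec (CommRingCat.of k))] [IsProper (X ↘ Spec (CommRingCat.of k))]
  [Smooth (X ↘ Spec (CommRingCat.of k))] [GeometricallyIntegral (X ↘ Spec (CommRingCat.of k))]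
  [Y.Over (Spec (CommRingCat.of k))] [IsProper (Y ↘ Spec (CommRingCat.of k))]
  [Smooth (Y ↘ Spec (CommRingCat.of k))] [GeometricallyIntegral (Y ↘ Spec (CommRingCat.of k))]
  (hX : topologicalKrullDim X = 1) (hY : topologicalKrullDim Y = 1)
  (hπ : π ≫ (Y ↘ Spec (CommRingCat.of k)) = X ↘ Spec (CommRingCat.of k))
include hrk hX hY hπ

/-- The canonical sheaf is pulled back from `ω_Y ⊗ Δ` for `Δ` inverse to the odd part. -/
theorem exists_descent_omega :
    ∃ N : Y.Modules, PicF.IsInvertible N ∧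
      (∀ Δ : Y.Modules, PicF.IsInvertible Δ → Nonempty (CohB1.tensorMod Δ N ≅ Coh.structureModule Y) →
        Nonempty ((Scheme.Modules.pullback π).obj (CohB1.tensorMod (omega k (X := Y)) Δ) ≅ omega k (X := X))) ∧
      ∃ S : ShortComplex Y.Modules, S.ShortExact ∧ Nonempty (S.X₁ ≅ Coh.structureModule Y) ∧
        Nonempty (S.X₂ ≅ DQCoh.pushStr π) ∧ Nonempty (S.X₃ ≅ N) := by
  haveI := EulerLib.isNoetherian_of_proper k (X := X)
  haveI := EulerLib.isNoetherian_of_proper k (X := Y)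
  have hnX := isIntegrallyClosed' k hX (X := X)
  obtain ⟨N, S, e₁, e₂, e₃, hS, hN, hdN, hf⟩ := exists_quot π hrk k hX hY hπ
  refine ⟨N, hN, fun Δ hΔ ⟨eΔ⟩ => ?_, S, hS, ⟨e₁⟩, ⟨e₂⟩, ⟨e₃⟩⟩
  have hΩ := omega_line k hY (X := Y)
  have hM := AmpleLib.isInvertible_tensorMod hΩ hΔ
  have hM1 := PicLib.isFinLocFreeOfRank_one hM
  have hπM := PicLoc.isInvertible_pullback π hM
  have hπMc := isCoh_of_line hπM
  haveI := hπMc.1
  obtain ⟨g, w, hT⟩ := unit_seq_of_quot π hrk k hX hY hπ hM1 hS e₁ e₂ e₃ hf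
  -- the same odd part
  have hdeg : gdeg k (CohB1.tensorMod (omega k (X := Y)) Δ) = 2 * (Curv2.genus k Y : ℤ) - 2 - gdeg k N := by
    have h := gdeg_tensor_line k hY hΔ hN
    rw [gdeg_congr k eΔ, gdeg_structure k hY] at h
    rw [gdeg_tensor_line k hY hΩ hΔ, gdeg_omega k hY]
    linarith
  have hd : gdeg k ((Scheme.Modules.pullback π).obj (CohB1.tensorMod (omega k (X := Y)) Δ)) =
      2 * (Curv2.genus k X : ℤ) - 2 := by
    rw [← deg_line k hπM, CurveRR24.deg_pullback k π hπ hY.le hM (genericPoint Y), deg_line k hM, hrk, hdeg, hdN,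
      euler_structure_eq k hX, euler_structure_eq k hY]
    push_cast
    ring
  obtain ⟨φ, hφ⟩ : ∃ φ : (Scheme.Modules.pullback π).obj (CohB1.tensorMod (omega k (X := Y)) Δ) ⟶ omega k (X := X),
      φ ≠ 0 := by
    by_contra hne
    push Not at hne
    have h1 := (subsingleton_h1_iff_hom_omega k hX hπMc).2 hne
    have h2 : Subsingleton (Coh.HH Y ((Scheme.Modules.pushforward π).obj
        ((Scheme.Modules.pullback π).obj (CohB1.tensorMod (omega k (X := Y)) Δ))) 1) :=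
      (SerreDual.hpush π k hπ _ 1).symm.toEquiv.subsingleton
    obtain ⟨m, hm⟩ := exists_rank (DQCoh.isFinLocFree_push (f := π) ⟨inferInstance, inferInstance, inferInstance⟩
      (LocFreeLib.isFinLocFree_of_rank (PicLib.isFinLocFreeOfRank_one hπM)))
    haveI : Epi g := hT.epi_g
    have hMN := AmpleLib.isInvertible_tensorMod hM hN
    have h3 := subsingleton_h1_of_epi' k hY g (SplitP1.isCoh_of_rank hm) (isCoh_of_line hMN) h2
    have hz := (subsingleton_h1_iff_hom_omega k hY (isCoh_of_line hMN)).1 h3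
    -- a nonzero map to the canonical sheaf
    obtain ⟨a⟩ := EulerLib.exists_assocIso' (omega k (X := Y)) hΔ hN
    let e : CohB1.tensorMod (CohB1.tensorMod (omega k (X := Y)) Δ) N ≅ omega k (X := Y) :=
      a ≪≫ AmpleLib.tensorIso (Iso.refl _) eΔ ≪≫ AmpleLib.tensorComm _ _ ≪≫ AmpleLib.unitTensorIso _
    exact VB5.not_isZero_of_grk (PicLib.isFinLocFreeOfRank_one hΩ) Nat.one_pos
      ((IsZero.iff_id_eq_zero _).2 ((cancel_epi e.hom).1 (by rw [Category.comp_id, comp_zero]; exact hz e.hom)))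
  haveI := (line_map k hX hnX hπM (omega_line k hX) φ hφ).2.2 (by rw [hd, gdeg_omega k hX])
  exact ⟨asIso φ⟩


theorem shortExact_middle {S : ShortComplex Y.Modules} (hS : S.ShortExact) {T : Y.Modules} (e : S.X₂ ≅ T) :
    ∃ w : (S.f ≫ e.hom) ≫ e.inv ≫ S.g = 0, (ShortComplex.mk _ _ w).ShortExact :=
  ⟨by rw [Category.assoc, Iso.hom_inv_id_assoc, S.zero],
    ShortComplex.shortExact_of_iso (ShortComplex.isoMk (S₁ := S) (Iso.refl _) e (Iso.refl _) (Category.id_comp _)
      ((Iso.hom_inv_id_assoc e S.g).trans (Category.comp_id _).symm)) hS⟩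

/-- The odd part is any complement of the structure module. -/
theorem exists_descent_omega_biprod {D : Y.Modules} (e : DQCoh.pushStr π ≅ Coh.structureModule Y ⊞ D) :
    ∃ Δ : Y.Modules, PicF.IsInvertible Δ ∧ Nonempty (CohB1.tensorMod Δ D ≅ Coh.structureModule Y) ∧
      Nonempty ((Scheme.Modules.pullback π).obj (CohB1.tensorMod (omega k (X := Y)) Δ) ≅ omega k (X := X)) := by
  haveI := EulerLib.isNoetherian_of_proper k (X := Y)
  obtain ⟨N, hN, h, S, hS, ⟨e₁⟩, ⟨e₂⟩, ⟨e₃⟩⟩ := exists_descent_omega π hrk k hX hY hπ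
  have hP2 : FlatMod.IsFinLocFreeOfRank 2 (DQCoh.pushStr π) := Split8.isFinLocFreeOfRank_push_of_finrank π hrk
  have hPc := SplitP1.isCoh_of_rank hP2
  let T := ShortComplex.mk (biprod.inl : Coh.structureModule Y ⟶ Coh.structureModule Y ⊞ D) biprod.snd biprod.inl_snd
  have hT : T.ShortExact :=
    (ShortComplex.Splitting.ofHasBinaryBiproduct (Coh.structureModule Y) D).shortExact
  obtain ⟨w, hU⟩ := shortExact_middle π hrk k hX hY hπ hT e.symm
  obtain ⟨w', hV⟩ := shortExact_middle π hrk k hX hY hπ hS e₂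
  have hO := PicLib.isFinLocFreeOfRank_one (X := Y) AmpleLib.isInvertible_structureModule
  haveI : Mono ((biprod.inr : D ⟶ Coh.structureModule Y ⊞ D) ≫ e.inv) := mono_comp _ _
  have hDc : Coh.IsCoh D := by
    haveI := hU.epi_g
    haveI : Coh.IsQCoh (DQCoh.pushStr π) := hPc.1
    haveI : Coh.IsQCoh (cokernel (T.f ≫ e.symm.hom)) :=
      (Coherent.isCoh_cokernel (T.f ≫ e.symm.hom) (isCoh_of_line AmpleLib.isInvertible_structureModule).1 hPc).1
    let i : cokernel (T.f ≫ e.symm.hom) ≅ D := IsColimit.coconePointUniqueUpToIso (cokernelIsCokernel _) hU.gIsCokernel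
    haveI : Coh.IsQCoh D := isQCoh_of_iso i
    exact isCoh_of_mono ((biprod.inr : D ⟶ Coh.structureModule Y ⊞ D) ≫ e.inv) hPc ‹_›
  obtain ⟨-, hDr⟩ := sub_bundle hY.le (isIntegrallyClosed' k hY (X := Y)) hP2
    ((biprod.inr : D ⟶ Coh.structureModule Y ⊞ D) ≫ e.inv) hDc
  have r := grk_additive hU hPc
  change grk (DQCoh.pushStr π) = grk (Coh.structureModule Y) + grk D at r
  rw [grk_eq hP2, grk_eq hO] at r
  rw [show grk D = 1 by omega] at hDr
  have hS1 : FlatMod.IsFinLocFreeOfRank 1 S.X₁ := PicLib.isFinLocFreeOfRank_one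
    (AmpleLib.glocus_isInvertible_of_iso e₁.symm AmpleLib.isInvertible_structureModule)
  have hS3 : FlatMod.IsFinLocFreeOfRank 1 S.X₃ := PicLib.isFinLocFreeOfRank_one
    (AmpleLib.glocus_isInvertible_of_iso e₃.symm hN)
  obtain ⟨Dt, -, hDt⟩ := ExtPowEx28.exists_isExtPow (LocFreeLib.isFinLocFree_of_rank hP2) 2
  obtain ⟨a⟩ := Atiyah5.nonempty_det (a := 1) (b := 1) hU hO hDr (KvbLam28.isExtPow_one _) hDt (KvbLam28.isExtPow_one _)
  obtain ⟨b⟩ := Atiyah5.nonempty_det (a := 1) (b := 1) hV hS1 hS3 (KvbLam28.isExtPow_one _) hDt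
    (KvbLam28.isExtPow_one _)
  let eDN : D ≅ N := (AmpleLib.unitTensorIso D).symm ≪≫ a ≪≫ b.symm ≪≫ AmpleLib.tensorIso e₁ e₃ ≪≫
    AmpleLib.unitTensorIso N
  obtain ⟨Δ, hΔ, ⟨eΔ⟩⟩ := CurveRR24.exists_inverse k hN
  exact ⟨Δ, hΔ, ⟨AmpleLib.tensorIso (Iso.refl Δ) eDN ≪≫ AmpleLib.tensorComm _ _ ≪≫ eΔ⟩,
    h Δ hΔ ⟨AmpleLib.tensorComm _ _ ≪≫ eΔ⟩⟩

end Groth.Agent.DblStab5
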