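import Groth.Agent.DblCov8.Scheme
import Groth.Agent.Hurwitz24.Main
import Groth.Agent.VB5.Sections
import Groth.Agent.VB5.Twist
import Groth.Agent.Split8.Rank
import Groth.Agent.AbCubeLib.FiniteDegree
import Groth.Agent.S1478
import Groth.Agent.CAlgH3.LocFreeFactor
import Groth.Agent.CAlgH3.FittOmega
import Groth.Agent.Hyper24.TraceH1
import Groth.Agent.FinCovLib29.Basis
import Groth.Agent.DQCoh.ResDescent

/-!
# Ramified double covers of curves
-/

set_option autoImplicit false
set_option linter.unusedSectionVars false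
set_option linter.style.haveILetI false
set_option backward.isDefEq.respectTransparency.types false
set_option maxHeartbeats 1000000
universe u

open CategoryTheory CategoryTheory.Limits AlgebraicGeometry TopologicalSpace Opposite
open Groth.Agent.Coherent Groth.Agent.PicLib Groth.Agent.VB5

namespace Groth.Agent.DblStab5

variable {X Y : Scheme.{u}} [IsIntegral X] [IsIntegral Y] (π : X ⟶ Y) [IsFinite π] [Flat π]
  [LocallyOfFinitePresentation π] (hrk : ∀ y : Y, π.finrank y = 2)

theorem map_genericPoint : π (genericPoint X) = genericPoint Y := by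
  have ho : IsOpen (Set.range π) := π.isOpenMap.isOpen_range
  obtain ⟨x, hx⟩ := ((genericPoint_spec Y).mem_open_set_iff ho).2 ⟨π (genericPoint X), trivial, ⟨_, rfl⟩⟩
  have h1 : π (genericPoint X) ⤳ π x := (genericPoint_specializes x).map π.continuous
  rw [hx] at h1
  exact (genericPoint_specializes (π (genericPoint X))).antisymm h1 |>.symm.eq

include hrk in
/-- A rank `r` bundle pushes forward to a bundle of generic rank `2r`. -/
theorem grk_push [IsLocallyNoetherian Y] {r : ℕ} {F : X.Modules} (hF : FlatMod.IsFinLocFreeOfRank r F) :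
    grk ((Scheme.Modules.pushforward π).obj F) = 2 * r := by
  classical
  have hPf := DQCoh.isFinLocFree_push (f := π) ⟨inferInstance, inferInstance, inferInstance⟩
    (LocFreeLib.isFinLocFree_of_rank hF)
  obtain ⟨m, hm⟩ := exists_rank hPf
  rw [grk_eq hm]
  obtain ⟨V, e, hηV, he⟩ := FinCovLib29.exists_isBasisOn_of_rank hF (genericPoint X)
  obtain ⟨U, f, hqU, hf⟩ := FinCovLib29.exists_isBasisOn_of_rank hm (genericPoint Y)
  -- a neighbourhood of the generic point whose preimage lies in `V`
  have hT : IsClosed (π '' (V : Set X)ᶜ) := π.isClosedMap _ V.2.isClosed_compl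
  have hηT : genericPoint Y ∉ π '' (V : Set X)ᶜ := fun ⟨x, hx, hxy⟩ => by
    have hS : IsClosed (π '' (V : Set X)ᶜ) := hT
    have hd : DiscreteTopology (π ⁻¹' {genericPoint Y}) := π.isDiscrete_preimage_singleton _ |>.to_subtype
    have hs : genericPoint X ⤳ x := genericPoint_specializes x
    have h1 : (⟨genericPoint X, map_genericPoint π⟩ : π ⁻¹' {genericPoint Y}) ⤳ ⟨x, hxy⟩ :=
      (subtype_specializes_iff _ _).2 hs
    have hxe : genericPoint X = x := congrArg Subtype.val h1.eq
    exact hx (hxe ▸ hηV)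
  obtain ⟨G, hyG, hG⟩ := DblCov8.exists_good π hrk (genericPoint Y)
  obtain ⟨a, ha, hηa⟩ := hG.affine.exists_basicOpen_le (V := U ⊓ ⟨(π '' (V : Set X)ᶜ)ᶜ, hT.isOpen_compl⟩)
    ⟨genericPoint Y, hqU, hηT⟩ hyG
  haveI : Nonempty (Y.basicOpen a).toScheme := ⟨⟨_, hηa⟩⟩
  haveI : IsDomain Γ(Y, Y.basicOpen a) := IsIntegral.component_integral _
  obtain ⟨hW, -⟩ := DblCov8.loc_data π hG a inferInstance
  have hle : π ⁻¹ᵁ Y.basicOpen a ≤ V := fun x hx => by
    by_contra h
    exact (ha hx).2 ⟨x, h, rfl⟩
  have hb₁ := CAlgH3.LocFreeFactor.IsBasisOn.mono he hle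
  have hb₂ := CAlgH3.LocFreeFactor.IsBasisOn.mono hf (ha.trans inf_le_left)
  letI := (π.app (Y.basicOpen a)).hom.toAlgebra
  haveI : Module.Free Γ(Y, Y.basicOpen a) Γ(X, π ⁻¹ᵁ Y.basicOpen a) := hW.free
  haveI : Module.Finite Γ(Y, Y.basicOpen a) Γ(X, π ⁻¹ᵁ Y.basicOpen a) := DblCov8.finite_app π hW.affine
  let P := (Scheme.Modules.pushforward π).obj F
  let L₁ : (ULift.{u} (Fin r) → Γ(X, π ⁻¹ᵁ Y.basicOpen a)) →ₗ[Γ(Y, Y.basicOpen a)] Γ(P, Y.basicOpen a) :=
    { toFun := fun c => (show Γ(P, Y.basicOpen a) from (∑ i, c i • resM F hle (e i) : Γ(F, π ⁻¹ᵁ Y.basicOpen a)))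
      map_add' := fun c d => by
        show (∑ i, (c + d) i • resM F hle (e i) : Γ(F, π ⁻¹ᵁ Y.basicOpen a)) = (∑ i, c i • resM F hle (e i)) + ∑ i, d i • resM F hle (e i)
        simp only [Pi.add_apply, add_smul, Finset.sum_add_distrib]
      map_smul' := fun t c => by
        show (∑ i, (π.app (Y.basicOpen a) t * c i) • resM F hle (e i) : Γ(F, π ⁻¹ᵁ Y.basicOpen a)) =
          π.app (Y.basicOpen a) t • ∑ i, c i • resM F hle (e i)
        simp only [mul_smul, Finset.smul_sum] }
  let L₂ : (ULift.{u} (Fin m) → Γ(Y, Y.basicOpen a)) →ₗ[Γ(Y, Y.basicOpen a)] Γ(P, Y.basicOpen a) :=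
    Fintype.linearCombination Γ(Y, Y.basicOpen a) fun i => resM P (ha.trans inf_le_left) (f i)
  have hL₁ : Function.Bijective L₁ := by
    have := hb₁ le_rfl
    simp only [resM_self] at this
    exact this
  have hL₂ : Function.Bijective L₂ := by
    have h := hf (ha.trans inf_le_left : Y.basicOpen a ≤ U)
    exact h
  have h := ((LinearEquiv.ofBijective L₁ hL₁).trans (LinearEquiv.ofBijective L₂ hL₂).symm).finrank_eq
  rw [Module.finrank_pi_fintype, Module.finrank_pi] at h
  simp only [hW.rank, Finset.sum_const, Finset.card_univ, Fintype.card_ulift, Fintype.card_fin, smul_eq_mul] at h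
  omega

variable (k : Type u) [Field k] [IsAlgClosed k] [CharZero k]
  [X.Over (Spec (CommRingCat.of k))] [IsProper (X ↘ Spec (CommRingCat.of k))]
  [Smooth (X ↘ Spec (CommRingCat.of k))] [GeometricallyIntegral (X ↘ Spec (CommRingCat.of k))]
  [Y.Over (Spec (CommRingCat.of k))] [IsProper (Y ↘ Spec (CommRingCat.of k))]
  [Smooth (Y ↘ Spec (CommRingCat.of k))] [GeometricallyIntegral (Y ↘ Spec (CommRingCat.of k))]

include hrk in
/-- A ramified double cover drops the Euler characteristic of the structure sheaf. -/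
theorem euler_structure_lt [IsLocallyNoetherian X] [IsLocallyNoetherian Y] (hX : topologicalKrullDim X = 1)
    (hY : topologicalKrullDim Y = 1) (hπ : π ≫ (Y ↘ Spec (CommRingCat.of k)) = X ↘ Spec (CommRingCat.of k))
    (hram : ¬ Etale π) :
    Curv2.euler k X (Coh.structureModule X) < 2 * Curv2.euler k Y (Coh.structureModule Y) := by
  haveI := EulerLib.isNoetherian_of_proper k (X := X)
  haveI := EulerLib.isNoetherian_of_proper k (X := Y)
  haveI : X.IsSeparated := EulerLib.isSeparated_of_proper k
  have e := map_genericPoint π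
  haveI : CharZero Y.functionField :=
    charZero_of_injective_ringHom (((Scheme.ΓSpecIso (CommRingCat.of k)).inv ≫
      (Y ↘ Spec (CommRingCat.of k)).appTop ≫ Y.presheaf.germ ⊤ (genericPoint Y) trivial).hom).injective
  have hsep : letI := ((Y.presheaf.stalkSpecializes (specializes_of_eq e) ≫ π.stalkMap (genericPoint X)).hom).toAlgebra
      Algebra.IsSeparable Y.functionField X.functionField := by
    letI := ((Y.presheaf.stalkSpecializes (specializes_of_eq e) ≫ π.stalkMap (genericPoint X)).hom).toAlgebra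
    haveI : FiniteDimensional Y.functionField X.functionField := Hyper24.finiteDimensional_ffMap π e
    infer_instance
  have h := Hurwitz24.hurwitz k hX hY π hπ e hsep
  rw [Hurwitz24.residueDegree_eq_finrank π e (genericPoint Y), hrk] at h
  rw [euler_structure_eq k hX, euler_structure_eq k hY]
  have hpos : 0 < Module.finrank k (Coh.HH X (Omega.sheaf π) 0) := by
    by_contra h0
    have hΩc : Coh.IsCoh (Omega.sheaf π) := ⟨MorProj.isQCoh_omega π, CAlgH3.FittOmega.isFT_omega π⟩
    have hgr : grk (Omega.sheaf π) = 0 := by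
      haveI := Hurwitz24.subsingleton_stalk_omega π e hsep
      exact Module.finrank_zero_of_subsingleton
    obtain ⟨-, hz⟩ := torsion_deg k hX hΩc hgr
    have hsupp : IsClosed (CohB1.support (Omega.sheaf π)) :=
      Coherent.isClosed_support _ (Coherent.locallyFinGen_of_isFT _ hΩc.2)
    have hη : genericPoint X ∉ CohB1.support (Omega.sheaf π) := fun hmem =>
      hmem (Hurwitz24.subsingleton_stalk_omega π e hsep)
    have he := CurveRR24.euler_eq_h0_of_small k hX.le hΩc.1 hsupp hη subset_rfl
    haveI := (S1478.result π).2 (hz (by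
      rw [gdeg, hgr, he, Nat.cast_zero, zero_mul, sub_zero]
      exact_mod_cast Nat.eq_zero_of_not_pos h0))
    exact hram (Etale.of_formallyUnramified_of_flat π)
  push_cast at h ⊢
  omega

end Groth.Agent.DblStab5
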