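import Groth.Agent.DblStab5.Cover
import Groth.Agent.H0Twist5.Basic
import Groth.Agent.DQCoh.ResDescent
import Groth.Agent.DCat.FlatPull
import Groth.Agent.CurveRR24.DegPull
import Groth.Agent.VB5.Jointly
import Groth.Agent.VarietyLib.CurveDegree

/-!
# Stable bundles stay stable under ramified double covers
-/

set_option autoImplicit false
set_option linter.unusedSectionVars false
set_option linter.style.haveILetI false
set_option backward.isDefEq.respectTransparency.types false
set_option maxHeartbeats 1000000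
universe u

open CategoryTheory CategoryTheory.Limits AlgebraicGeometry TopologicalSpace Opposite
open Groth.Agent.Coherent Groth.Agent.PicLib Groth.Agent.VB5 Groth.Agent.AmpleLib

namespace Groth.Agent.DblStab5

variable {X Y : Scheme.{u}} [IsIntegral X] [IsIntegral Y] [IsLocallyNoetherian X] [IsLocallyNoetherian Y]
  (π : X ⟶ Y) [IsFinite π] [Flat π]
  [LocallyOfFinitePresentation π] (hrk : ∀ y : Y, π.finrank y = 2)
  (k : Type u) [Field k] [IsAlgClosed k] [CharZero k]
  [X.Over (Spec (CommRingCat.of k))] [IsProper (X ↘ Spec (CommRingCat.of k))]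
  [Smooth (X ↘ Spec (CommRingCat.of k))] [GeometricallyIntegral (X ↘ Spec (CommRingCat.of k))]
  [Y.Over (Spec (CommRingCat.of k))] [IsProper (Y ↘ Spec (CommRingCat.of k))]
  [Smooth (Y ↘ Spec (CommRingCat.of k))] [GeometricallyIntegral (Y ↘ Spec (CommRingCat.of k))]
  (hX : topologicalKrullDim X = 1) (hY : topologicalKrullDim Y = 1)
  (hπ : π ≫ (Y ↘ Spec (CommRingCat.of k)) = X ↘ Spec (CommRingCat.of k))
include hrk hX hY hπ

/-- The degree of a direct image along a double cover. -/
theorem gdeg_push {r : ℕ} {F : X.Modules} (hF : FlatMod.IsFinLocFreeOfRank r F) :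
    gdeg k ((Scheme.Modules.pushforward π).obj F) = gdeg k F + (r : ℤ) *
      (Curv2.euler k X (Coh.structureModule X) - 2 * Curv2.euler k Y (Coh.structureModule Y)) := by
  haveI := EulerLib.isSeparated_of_proper (X := Y) k
  haveI := LocFreeLib.isQCoh_of_isFinLocFreeOfRank hF
  have h := AbCubeLib.euler_push k π hπ F
  rw [gdeg, gdeg, grk_push π hrk hF, grk_eq hF]
  change Curv2.euler k X F = Curv2.euler k Y ((Scheme.Modules.pushforward π).obj F) at h
  push_cast
  linear_combination -h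

/-- The structure module is a line subbundle of its direct image. -/
theorem exists_quot :
    ∃ (N : Y.Modules) (S : ShortComplex Y.Modules) (e₁ : S.X₁ ≅ Coh.structureModule Y)
      (e₂ : S.X₂ ≅ DQCoh.pushStr π) (_ : S.X₃ ≅ N),
      S.ShortExact ∧ PicF.IsInvertible N ∧
      gdeg k N = Curv2.euler k X (Coh.structureModule X) - 2 * Curv2.euler k Y (Coh.structureModule Y) ∧
      e₁.inv ≫ S.f ≫ e₂.hom =
        unitDesc (DQCoh.pushStr π) (show Γ(DQCoh.pushStr π, ⊤) from (1 : Γ(X, π ⁻¹ᵁ ⊤))) := by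
  haveI := EulerLib.isNoetherian_of_proper k (X := Y)
  have hn := isIntegrallyClosed' k hY (X := Y)
  have hnX := isIntegrallyClosed' k hX (X := X)
  let ι0 := unitDesc (DQCoh.pushStr π) (show Γ(DQCoh.pushStr π, ⊤) from (1 : Γ(X, π ⁻¹ᵁ ⊤)))
  have hP2 := Split8.isFinLocFreeOfRank_push_of_finrank π hrk
  have hPc := SplitP1.isCoh_of_rank hP2
  have hO : PicF.IsInvertible (Coh.structureModule Y) := AmpleLib.isInvertible_structureModule
  have hOX : PicF.IsInvertible (Coh.structureModule X) := AmpleLib.isInvertible_structureModule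
  have hι : ι0 ≠ 0 := fun h => by
    have h1 := congrArg (fun φ => φ.app ⊤ (show Γ(Coh.structureModule Y, ⊤) from (1 : Γ(Y, ⊤)))) h
    simp only [ι0, app_unit, unitVal_unitDesc, resM_self, one_smul, Scheme.Modules.Hom.zero_app] at h1
    haveI : Nonempty (π ⁻¹ᵁ (⊤ : Y.Opens)).toScheme := ⟨⟨genericPoint X, trivial⟩⟩
    haveI : IsDomain Γ(X, π ⁻¹ᵁ (⊤ : Y.Opens)) := IsIntegral.component_integral _
    exact one_ne_zero (show (1 : Γ(X, π ⁻¹ᵁ (⊤ : Y.Opens))) = 0 from h1)
  haveI : Mono ι0 := SplitP1.mono_of_ne_zero' hPc (fun y => (SplitP1.nonempty_basis_stalk hP2 y).elim fun d =>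
    Module.Free.of_basis d) hO ι0 hι
  obtain ⟨P, q, hq, hK, hP, hιq⟩ := H0Twist5.exists_line_sat k hY hP2 hO ι0
  haveI := hq
  let g : Coh.structureModule Y ⟶ kernel q := kernel.lift q ι0 hιq
  have hg : g ≫ kernel.ι q = ι0 := kernel.lift_ι _ _ _
  have hg0 : g ≠ 0 := fun h => hι (by rw [← hg, h, zero_comp])
  have hKX := PicLoc.isInvertible_pullback π hK
  let adj := Scheme.Modules.pullbackPushforwardAdjunction π
  have hψ : (adj.homEquiv _ _).symm (kernel.ι q) ≠ 0 := fun h => by
    have h1 : adj.homEquiv _ _ ((adj.homEquiv _ _).symm (kernel.ι q)) = kernel.ι q := Equiv.apply_symm_apply _ _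
    rw [h, Adjunction.homEquiv_unit, Functor.map_zero, comp_zero] at h1
    exact hι (by rw [← hg, ← h1, comp_zero])
  have hd1 := (line_map k hX hnX hKX hOX _ hψ).1
  rw [gdeg_structure k hX, ← deg_line k hKX, CurveRR24.deg_pullback k π hπ hY.le hK (genericPoint Y),
    deg_line k hK, hrk] at hd1
  obtain ⟨hd2, -, hiso⟩ := line_map k hY hn hO hK g hg0
  rw [gdeg_structure k hY] at hd2 hiso
  haveI := hiso (by push_cast at hd1; omega)
  refine ⟨P, ShortComplex.mk (kernel.ι q) q (kernel.condition q), (asIso g).symm, Iso.refl _, Iso.refl _,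
    EulerLib.shortExact_kernel q, hP, ?_, ?_⟩
  · have h := gdeg_additive k (EulerLib.shortExact_kernel q) (isCoh_of_line hK) hPc (isCoh_of_line hP)
    change gdeg k (DQCoh.pushStr π) = gdeg k (kernel q) + gdeg k P at h
    have h' := gdeg_push π hrk k hX hY hπ (PicLib.isFinLocFreeOfRank_one hOX)
    change gdeg k (DQCoh.pushStr π) = _ at h'
    rw [gdeg_structure k hX] at h'
    push_cast at hd1 h'
    omega
  · show g ≫ kernel.ι q ≫ 𝟙 _ = ι0
    rw [Category.comp_id, hg]

/-- The cokernel of the unit, from a presentation of the odd part. -/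
theorem unit_seq_of_quot {r : ℕ} {E : Y.Modules} (hE : FlatMod.IsFinLocFreeOfRank r E) {N : Y.Modules}
    {S : ShortComplex Y.Modules} (hS : S.ShortExact) (e₁ : S.X₁ ≅ Coh.structureModule Y)
    (e₂ : S.X₂ ≅ DQCoh.pushStr π) (e₃ : S.X₃ ≅ N)
    (hf : e₁.inv ≫ S.f ≫ e₂.hom =
      unitDesc (DQCoh.pushStr π) (show Γ(DQCoh.pushStr π, ⊤) from (1 : Γ(X, π ⁻¹ᵁ ⊤)))) :
    ∃ (g : (Scheme.Modules.pushforward π).obj ((Scheme.Modules.pullback π).obj E) ⟶
        CohB1.tensorMod E N) (w : (Scheme.Modules.pullbackPushforwardAdjunction π).unit.app E ≫ g = 0),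
      (ShortComplex.mk _ g w).ShortExact := by
  haveI := LocFreeLib.isQCoh_of_isFinLocFreeOfRank hE
  have hEf := LocFreeLib.isFinLocFree_of_rank hE
  haveI : PreservesFiniteLimits (SerreDual.twistF E) :=
    haveI := Coherent.preservesFiniteLimits_tensE hEf
    preservesFiniteLimits_of_natIso (SerreDual.twistTensIso E).symm
  haveI : PreservesFiniteColimits (SerreDual.twistF E) :=
    haveI := Coherent.preservesFiniteColimits_tensE hEf
    preservesFiniteColimits_of_natIso (SerreDual.twistTensIso E).symm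
  have hT := hS.map_of_exact (SerreDual.twistF E)
  let a₁ : (S.map (SerreDual.twistF E)).X₁ ≅ E :=
    (SerreDual.twistF E).mapIso e₁ ≪≫ AmpleLib.unitTensorIso E
  let a₂ : (S.map (SerreDual.twistF E)).X₂ ≅
      (Scheme.Modules.pushforward π).obj ((Scheme.Modules.pullback π).obj E) :=
    (SerreDual.twistF E).mapIso e₂ ≪≫ @asIso _ _ _ _ (DQCoh.unitBilin π E).desc (DQCoh.isIso_unitBilin π E)
  let a₃ : (S.map (SerreDual.twistF E)).X₃ ≅ CohB1.tensorMod E N :=
    (SerreDual.twistF E).mapIso e₃ ≪≫ AmpleLib.tensorComm _ _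
  have hcomm : (S.map (SerreDual.twistF E)).f ≫ a₂.hom =
      a₁.hom ≫ (Scheme.Modules.pullbackPushforwardAdjunction π).unit.app E := by
    have hf' : S.f ≫ e₂.hom = e₁.hom ≫ unitDesc (DQCoh.pushStr π)
        (show Γ(DQCoh.pushStr π, ⊤) from (1 : Γ(X, π ⁻¹ᵁ ⊤))) := by rw [← hf, Iso.hom_inv_id_assoc]
    show (SerreDual.twistF E).map S.f ≫ (SerreDual.twistF E).map e₂.hom ≫ (DQCoh.unitBilin π E).desc =
      ((SerreDual.twistF E).map e₁.hom ≫ (AmpleLib.unitTensorIso E).hom) ≫ _
    rw [← Functor.map_comp_assoc, hf', Functor.map_comp, Category.assoc, Category.assoc]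
    congr 1
    refine AmpleLib.hom_ext fun U (b : Γ(Coh.structureModule Y, U)) m => ?_
    show (DQCoh.unitBilin π E).desc.app U ((tensorMap _ (𝟙 E)).app U (tmul b m)) =
      ((Scheme.Modules.pullbackPushforwardAdjunction π).unit.app E).app U ((unitBilin E).desc.app U (tmul b m))
    rw [tensorMap_tmul, Bilin.desc_tmul, Bilin.desc_tmul, app_unit, unitVal_unitDesc]
    refine Eq.trans ?_ (pullSec_smul π (show Γ(Y, U) from b) m).symm
    show ((show Γ(X, π ⁻¹ᵁ U) from π.app U (show Γ(Y, U) from b)) *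
        (show Γ(X, π ⁻¹ᵁ U) from resM (DQCoh.pushStr π) (le_top : U ≤ ⊤)
          (show Γ(DQCoh.pushStr π, ⊤) from (1 : Γ(X, π ⁻¹ᵁ ⊤))))) • pullSec π m =
      (show Γ(X, π ⁻¹ᵁ U) from π.app U (show Γ(Y, U) from b)) • pullSec π m
    refine congrArg (· • _) ((congrArg (_ * ·) ?_).trans (mul_one _))
    exact map_one (X.presheaf.map ((Opens.map π.base).map (homOfLE (le_top : U ≤ ⊤))).op).hom
  refine ⟨a₂.inv ≫ (S.map (SerreDual.twistF E)).g ≫ a₃.hom, ?_, ?_⟩
  · rw [← cancel_epi a₁.hom, comp_zero, ← Category.assoc, ← hcomm, Category.assoc, Iso.hom_inv_id_assoc,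
      ShortComplex.zero_assoc, zero_comp]
  · refine ShortComplex.shortExact_of_iso (ShortComplex.isoMk a₁ a₂ a₃ hcomm.symm ?_) hT
    exact (Iso.hom_inv_id_assoc _ _).trans rfl

/-- The cokernel of the unit is a twist. -/
theorem exists_unit_seq {r : ℕ} {E : Y.Modules} (hE : FlatMod.IsFinLocFreeOfRank r E) :
    ∃ (N : Y.Modules) (g : (Scheme.Modules.pushforward π).obj ((Scheme.Modules.pullback π).obj E) ⟶
        CohB1.tensorMod E N) (w : (Scheme.Modules.pullbackPushforwardAdjunction π).unit.app E ≫ g = 0),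
      (ShortComplex.mk _ g w).ShortExact ∧ PicF.IsInvertible N ∧
      gdeg k N = Curv2.euler k X (Coh.structureModule X) - 2 * Curv2.euler k Y (Coh.structureModule Y) := by
  obtain ⟨N, S, e₁, e₂, e₃, hS, hN, hd, hf⟩ := exists_quot π hrk k hX hY hπ
  obtain ⟨g, w, h⟩ := unit_seq_of_quot π hrk k hX hY hπ hE hS e₁ e₂ e₃ hf
  exact ⟨N, g, w, h, hN, hd⟩

/-- The pullback of a stable bundle to a ramified double cover is stable. -/
theorem deg_lt (hram : ¬ Etale π) {r : ℕ} {E : Y.Modules} (hE : FlatMod.IsFinLocFreeOfRank r E) (hst : ST k E)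
    {r' : ℕ} {F : X.Modules} (hF : FlatMod.IsFinLocFreeOfRank r' F) (i : F ⟶ (Scheme.Modules.pullback π).obj E)
    [Mono i] (h0 : 0 < r') (hlt : r' < r) :
    gdeg k F * (r : ℤ) < gdeg k ((Scheme.Modules.pullback π).obj E) * (r' : ℤ) := by
  haveI := EulerLib.isNoetherian_of_proper k (X := Y)
  haveI := EulerLib.isNoetherian_of_proper k (X := X)
  have hnY := isIntegrallyClosed' k hY (X := Y)
  have hnX := isIntegrallyClosed' k hX (X := X)
  have hn := euler_structure_lt π hrk k hX hY hπ hram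
  obtain ⟨N, g, w, hT, hN, hdN⟩ := exists_unit_seq π hrk k hX hY hπ hE
  let adj := Scheme.Modules.pullbackPushforwardAdjunction π
  have hEc := SplitP1.isCoh_of_rank hE
  have hπE := VarietyLib.isFinLocFreeOfRank_pullback π hE
  have hflp : Mor2.IsFinLocFree π := ⟨inferInstance, inferInstance, inferInstance⟩
  obtain ⟨mP, hPm⟩ := exists_rank (DQCoh.isFinLocFree_push (f := π) hflp (LocFreeLib.isFinLocFree_of_rank hF))
  have hPEc : Coh.IsCoh ((Scheme.Modules.pushforward π).obj ((Scheme.Modules.pullback π).obj E)) := by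
    obtain ⟨m, hm⟩ := exists_rank (DQCoh.isFinLocFree_push (f := π) hflp (LocFreeLib.isFinLocFree_of_rank hπE))
    exact SplitP1.isCoh_of_rank hm
  have hEN := Clifford24.isFinLocFreeOfRank_tensorMod hE hN
  have hENst := hst.twist k hY hnY hE hN
  have hENss : SS k (CohB1.tensorMod E N) := ST.ss k hY hnY hEN hENst
  -- the pullback has twice the degree
  have hdπ : gdeg k ((Scheme.Modules.pullback π).obj E) = 2 * gdeg k E := by
    have h1 := gdeg_push π hrk k hX hY hπ hπE
    have h2 := gdeg_additive k hT hEc hPEc (SplitP1.isCoh_of_rank hEN)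
    change gdeg k ((Scheme.Modules.pushforward π).obj ((Scheme.Modules.pullback π).obj E)) =
      gdeg k E + gdeg k (CohB1.tensorMod E N) at h2
    rw [gdeg_twist k hY hnY hN r hE, hdN] at h2
    linarith
  -- split the direct image
  haveI : (Scheme.Modules.pushforward π).PreservesMonomorphisms :=
    Functor.preservesMonomorphisms_of_adjunction adj
  let j := (Scheme.Modules.pushforward π).map i
  obtain ⟨I, p, jI, hp, hjI, hpj, hI, -⟩ := exists_image k hY hnY hPm hEN (j ≫ g)
  haveI := hp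
  haveI := hjI
  have hPc := SplitP1.isCoh_of_rank hPm
  have hA := Coherent.isCoh_kernel p hPc hI.1
  have hSp := EulerLib.shortExact_kernel p
  have d1 := gdeg_additive k hSp hA hPc hI
  have r1 := grk_additive hSp hPc
  change gdeg k ((Scheme.Modules.pushforward π).obj F) = gdeg k (kernel p) + gdeg k I at d1
  change grk ((Scheme.Modules.pushforward π).obj F) = grk (kernel p) + grk I at r1
  rw [grk_push π hrk hF] at r1
  rw [gdeg_push π hrk k hX hY hπ hF] at d1
  have hB := hENss I jI hjI hI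
  rw [grk_eq hEN, gdeg_twist k hY hnY hN r hE, hdN] at hB
  have hz : (kernel.ι p ≫ j) ≫ g = 0 := by
    rw [Category.assoc, ← hpj, ← Category.assoc, kernel.condition, zero_comp]
  obtain ⟨ρ₀, hρ₀⟩ := KernelFork.IsLimit.lift' hT.fIsKernel (kernel.ι p ≫ j) hz
  obtain ⟨ρ, hρ⟩ : ∃ ρ : kernel p ⟶ E, ρ ≫ adj.unit.app E = kernel.ι p ≫ j := ⟨ρ₀, hρ₀⟩
  haveI : Mono (ρ ≫ adj.unit.app E) := by rw [hρ]; infer_instance
  haveI : Mono ρ := mono_of_mono ρ (adj.unit.app E)
  obtain ⟨-, hAf⟩ := sub_bundle hY.le hnY hE ρ hA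
  have hfac : (Scheme.Modules.pullback π).map ρ = (adj.homEquiv _ _).symm (kernel.ι p) ≫ i := by
    rw [← adj.homEquiv_naturality_right_symm]
    show _ = (adj.homEquiv _ _).symm (kernel.ι p ≫ j)
    rw [← hρ, adj.homEquiv_naturality_left_symm, Adjunction.homEquiv_counit]
    exact ((congrArg (_ ≫ ·) (adj.left_triangle_components E)).trans (Category.comp_id _)).symm
  haveI : PreservesFiniteLimits (Scheme.Modules.pullback π) := DCat.FlatPull.preservesFiniteLimits_pullback π
  haveI : Mono ((adj.homEquiv _ _).symm (kernel.ι p)) :=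
    haveI : Mono ((adj.homEquiv _ _).symm (kernel.ι p) ≫ i) := by rw [← hfac]; infer_instance
    mono_of_mono _ i
  have hπA := VarietyLib.isFinLocFreeOfRank_pullback π hAf
  have ha := (sub_bundle hX.le hnX hF ((adj.homEquiv _ _).symm (kernel.ι p)) (SplitP1.isCoh_of_rank hπA)).1
  rw [grk_eq hπA] at ha
  by_contra hnot
  push Not at hnot
  rw [hdπ] at hnot
  have hrz : (0 : ℤ) < r := by exact_mod_cast (h0.trans hlt)
  rcases Nat.eq_zero_or_pos (grk (kernel p)) with hz0 | hpos
  · rw [(zero_rank_sub k hY hnY hE ρ hA hz0).2] at d1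
    rw [hz0] at r1
    have : (grk I : ℤ) = 2 * (r' : ℤ) := by omega
    rw [this] at hB
    have : (r : ℤ) * (r' : ℤ) * (Curv2.euler k X (Coh.structureModule X) -
        2 * Curv2.euler k Y (Coh.structureModule Y)) < 0 :=
      mul_neg_of_pos_of_neg (by positivity) (by linarith)
    nlinarith
  · have hA' := hst (kernel p) ρ inferInstance hA hpos fun hiso => by
      haveI := hiso
      have := grk_congr (asIso ρ)
      rw [grk_eq hE] at this
      omega
    rw [grk_eq hE] at hA'
    have hb : (grk I : ℤ) = 2 * (r' : ℤ) - (grk (kernel p) : ℤ) := by omega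
    rw [hb] at hB
    have : (r : ℤ) * ((r' : ℤ) - (grk (kernel p) : ℤ)) * (Curv2.euler k X (Coh.structureModule X) -
        2 * Curv2.euler k Y (Coh.structureModule Y)) ≤ 0 :=
      mul_nonpos_of_nonneg_of_nonpos (by apply mul_nonneg <;> omega) (by linarith)
    nlinarith

end Groth.Agent.DblStab5
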